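import Cfsg.Agent.Lib.Janko3Out.Defs

/-!
Kernel checks of a third of the orbit representatives.
-/

set_option autoImplicit false
set_option maxRecDepth 100000
set_option maxHeartbeats 0

namespace CfsgLib.Janko3Out

theorem check_rep_0 : blockOK 0 = true := by decide +kernel

theorem check_rep_1 : blockOK 1 = true := by decide +kernel

theorem check_rep_2 : blockOK 2 = true := by decide +kernel

end CfsgLib.Janko3Out
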