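import Cfsg.Agent.Lib.Janko3Out.ChecksBase
import Cfsg.Agent.Lib.Janko3Out.ChecksRepA
import Cfsg.Agent.Lib.Janko3Out.ChecksRepB
import Cfsg.Agent.Lib.Janko3Out.ChecksRepC

/-!
The listed conjugates of an involution are pairwise different.
-/

set_option autoImplicit false
set_option linter.unusedSectionVars false
set_option maxRecDepth 100000

namespace CfsgLib.Janko3Out

open Cfsg.Spor Matrix
open CfsgLib.Janko3
open CfsgLib.KnownA.JankoThreeSchur (prodC scalEq scalEq_iff scal_mem dec_scal mul_lt)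
open CfsgLib.InvChar.Coset (force force_eq)

theorem one_lt : one < 2 ^ 162 := by decide +kernel

theorem rep_check {j : ℕ} (hj : j < 1377) : repOK j = true := by
  have key : ∀ q < 9, blockOK q = true := by
    intro q hq
    interval_cases q
    exacts [check_rep_0, check_rep_1, check_rep_2, check_rep_3, check_rep_4, check_rep_5, check_rep_6,
      check_rep_7, check_rep_8]
  have h := of_all (key (j / 153) (by omega)) (Nat.mod_lt j (show 153 > 0 by norm_num))
  rwa [Nat.div_add_mod] at h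

theorem vec_congr {A B : ℕ} (h : ∀ T ∈ lsTab, trc T A = trc T B) : vec A = vec B := by
  have key : ∀ L : List ℕ, (∀ T ∈ L, trc T A = trc T B) →
      L.foldr (fun T acc => trc T A ||| (acc <<< 2)) 0 = L.foldr (fun T acc => trc T B ||| (acc <<< 2)) 0 := by
    intro L
    induction L with
    | nil => intro _; rfl
    | cons T L ih =>
      intro h
      rw [List.foldr_cons, List.foldr_cons, h T (List.mem_cons_self ..),
        ih fun U hU => h U (List.mem_cons_of_mem _ hU)]
  exact key lsTab h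

theorem key_lt_key {p q : ℕ} (hq : q < 1363) (h : p < q) : key p < key q := by
  have hk := check_keys
  simp only [keysOK, Bool.and_eq_true] at hk
  induction q with
  | zero => omega
  | succ q ih =>
    have hs := of_all hk.1 (show q < 1362 by omega)
    simp only [Nat.blt_eq] at hs
    rcases (Nat.lt_succ_iff.1 h).lt_or_eq with h' | rfl
    · exact (ih (by omega) h').trans hs
    · exact hs

variable {F : Type*} [Field F] {ω : F}

variable (F ω) in
/-- The element of order 19. -/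
noncomputable abbrev qX : QQ F ω := qEl F ω xC

variable (F ω) in
/-- The involution. -/
noncomputable abbrev qY : QQ F ω := qEl F ω yC

variable (F ω) in
/-- The value of a word in some codes. -/
noncomputable def wp (codes w : List ℕ) : QQ F ω := (w.map fun k => qEl F ω (codes.getD k one)).prod

variable (hf : Field4 F ω)
include hf

theorem gens_mem (k : ℕ) : Mem F ω (gens.getD k one) := by
  rcases Nat.lt_or_ge k 7 with hk | hk
  · have h : ∀ g < 6, Mem F ω (hGen g) := fun g hg => ⟨unit_hGen hf hg, HH_le_GG hf (hGen_mem hf hg)⟩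
    interval_cases k
    exacts [h 0 (by norm_num), h 1 (by norm_num), h 2 (by norm_num), h 3 (by norm_num),
      h 4 (by norm_num), h 5 (by norm_num), ⟨(base hf).2.2.2.2, gen1_mem hf⟩]
  · rw [List.getD_eq_default _ _ (by simpa [gens] using hk)]
    exact (qEl_one hf).1

theorem word_spec {codes : List ℕ} (hc : ∀ k, Mem F ω (codes.getD k one)) (w : List ℕ) :
    Mem F ω (prodC codes w) ∧ prodC codes w < 2 ^ 162 ∧ qEl F ω (prodC codes w) = wp F ω codes w := by
  have key : ∀ (w : List ℕ) (M : ℕ), Mem F ω M → M < 2 ^ 162 →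
      Mem F ω (w.foldl (fun M k => force (mul M (codes.getD k one)) fun M => M) M) ∧
      w.foldl (fun M k => force (mul M (codes.getD k one)) fun M => M) M < 2 ^ 162 ∧
      qEl F ω (w.foldl (fun M k => force (mul M (codes.getD k one)) fun M => M) M) =
        qEl F ω M * wp F ω codes w := by
    intro w
    induction w with
    | nil => intro M hM hl; exact ⟨hM, hl, by simp [wp]⟩
    | cons k w ih =>
      intro M hM hl
      rw [List.foldl_cons, force_eq]
      obtain ⟨hm, e⟩ := qEl_mul hf hM (hc k)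
      obtain ⟨h1, h2, h3⟩ := ih _ hm (mul_lt _ _)
      refine ⟨h1, h2, ?_⟩
      rw [h3, e, wp, wp, List.map_cons, List.prod_cons, mul_assoc]
  obtain ⟨h1, h2, h3⟩ := key w one (qEl_one hf).1 one_lt
  exact ⟨h1, h2, by rw [prodC, h3, (qEl_one hf).2, one_mul]⟩

theorem xC_mem : Mem F ω xC ∧ xC < 2 ^ 162 := by
  have h := check_base
  simp only [baseOK, Bool.and_eq_true] at h
  rw [beq_eq h.1.1.1.1.1.1.1.1.1.2]
  exact ⟨(word_spec hf (gens_mem hf) _).1, (word_spec hf (gens_mem hf) _).2.1⟩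

theorem yC_mem : Mem F ω yC ∧ yC < 2 ^ 162 := by
  have h := check_base
  simp only [baseOK, Bool.and_eq_true, Nat.blt_eq] at h
  exact ⟨gens_mem hf 5, h.1.2⟩

theorem xp_spec {i : ℕ} (hi : i < 19) : Mem F ω (xp i) ∧ xp i < 2 ^ 162 ∧
    qEl F ω (xp i) = qX F ω ^ i ∧ dec F ω (xp i) = dec F ω xC ^ i := by
  have h := check_base
  simp only [baseOK, Bool.and_eq_true] at h
  obtain ⟨⟨⟨⟨⟨⟨⟨⟨⟨⟨h0, -⟩, hs⟩, -⟩, -⟩, -⟩, -⟩, -⟩, -⟩, -⟩, -⟩ := h
  induction i with
  | zero =>
    rw [beq_eq h0]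
    exact ⟨(qEl_one hf).1, one_lt, by rw [pow_zero]; exact (qEl_one hf).2, by rw [pow_zero, dec_one]⟩
  | succ i ih =>
    obtain ⟨m, l, e, d⟩ := ih (by omega)
    obtain ⟨m', e'⟩ := qEl_mul hf m (xC_mem hf).1
    rw [beq_eq (of_all hs (show i < 18 by omega))]
    refine ⟨m', mul_lt _ _, by rw [e', e, pow_succ], ?_⟩
    rw [dec_mul hf.two hf.omega, d, pow_succ]

/-- A successful scalar test on decodings. -/
theorem scalEq_dec {a b : ℕ} (h : scalEq a b = true) :
    ∃ c : F, c ≠ 0 ∧ dec F ω b = c • dec F ω a := by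
  have hω0 : ω ≠ 0 := fun e => by simpa [e] using hf.omega
  have hω1 : ω + 1 ≠ 0 := fun e => by
    have h2 : ω ^ 2 = 0 := by linear_combination hf.omega - e
    exact hω0 (pow_eq_zero_iff (n := 2) (by norm_num) |>.1 h2)
  simp only [scalEq, Bool.or_eq_true] at h
  rcases h with (h | h) | h <;> rw [← beq_eq h]
  · exact ⟨1, one_ne_zero, (one_smul _ _).symm⟩
  · exact ⟨ω, hω0, by simp [dec_mul hf.two hf.omega, dec_scal hf (c := 2) (by simp), el, Nat.testBit]⟩
  · exact ⟨1 + ω, by rwa [add_comm],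
      by simp [dec_mul hf.two hf.omega, dec_scal hf (c := 3) (by simp), el, Nat.testBit]⟩

theorem dec_xC_pow : ∃ s : F, s ≠ 0 ∧ dec F ω xC ^ 19 = s • (1 : Matrix F9 F9 F) := by
  have h := check_base
  simp only [baseOK, Bool.and_eq_true] at h
  obtain ⟨c, hc, e⟩ := scalEq_dec hf h.1.1.1.1.1.1.1.2
  rw [dec_one, dec_mul hf.two hf.omega, (xp_spec hf (show 18 < 19 by norm_num)).2.2.2] at e
  refine ⟨c⁻¹, inv_ne_zero hc, ?_⟩
  rw [e, smul_smul, inv_mul_cancel₀ hc, one_smul, ← pow_succ]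

variable [Fintype F] (hF : Fintype.card F = 4)
include hF

theorem qX_pow : qX F ω ^ 19 = 1 := by
  have h := check_base
  simp only [baseOK, Bool.and_eq_true] at h
  obtain ⟨m, l, e, -⟩ := xp_spec hf (show 18 < 19 by norm_num)
  obtain ⟨m', e'⟩ := qEl_mul hf m (xC_mem hf).1
  rw [pow_succ, ← e, ← e',
    (scalEq_iff hf hF m' (qEl_one hf).1 (mul_lt _ _) one_lt).1 h.1.1.1.1.1.1.1.2, (qEl_one hf).2]

theorem qX_order : orderOf (qX F ω) = 19 := by
  haveI : Fact (Nat.Prime 19) := ⟨by norm_num⟩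
  refine orderOf_eq_prime (qX_pow hf hF) fun e => ?_
  have h := check_base
  simp only [baseOK, Bool.and_eq_true, Bool.not_eq_true'] at h
  have := (scalEq_iff hf hF (xC_mem hf).1 (qEl_one hf).1 (xC_mem hf).2 one_lt).2
    (e.trans (qEl_one hf).2.symm)
  rw [h.1.1.1.1.1.1.2] at this
  exact Bool.noConfusion this

theorem qX_pow_sub (i : ℕ) (hi : i < 19) : qX F ω ^ ((19 - i) % 19) = (qX F ω ^ i)⁻¹ := by
  rw [← pow_eq_pow_mod _ (qX_pow hf hF)]
  refine eq_inv_of_mul_eq_one_left ?_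
  rw [← pow_add, Nat.sub_add_cancel hi.le, qX_pow hf hF]

theorem qY_order : orderOf (qY F ω) = 2 := by
  have h := check_base
  simp only [baseOK, Bool.and_eq_true, Bool.not_eq_true'] at h
  obtain ⟨m, l⟩ := yC_mem hf
  obtain ⟨m', e'⟩ := qEl_mul hf m m
  refine orderOf_eq_prime ?_ fun e => ?_
  · rw [pow_two, ← e', (scalEq_iff hf hF m' (qEl_one hf).1 (mul_lt _ _) one_lt).1 h.1.1.1.1.2,
      (qEl_one hf).2]
  · have := (scalEq_iff hf hF m (qEl_one hf).1 l one_lt).2 (e.trans (qEl_one hf).2.symm)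
    rw [h.1.1.1.2] at this
    exact Bool.noConfusion this

/-- Every representative is a conjugate of the involution. -/
theorem rep_spec {j : ℕ} (hj : j < 1377) : Mem F ω (rep j) ∧ rep j < 2 ^ 162 ∧
    ∃ g : QQ F ω, qEl F ω (rep j) = g * qY F ω * g⁻¹ := by
  induction j using Nat.strong_induction_on with
  | _ j ih =>
    have h := rep_check hj
    simp only [repOK, force_eq, Bool.and_eq_true] at h
    obtain ⟨⟨⟨⟨⟨h, -⟩, -⟩, -⟩, -⟩, -⟩ := h
    rcases Bool.eq_false_or_eq_true (Nat.beq j 0) with hb | hb <;> rw [hb] at h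
    · rw [cond_true] at h
      rw [beq_eq h]
      exact ⟨(yC_mem hf).1, (yC_mem hf).2, 1, by simp⟩
    simp only [cond_false, Bool.and_eq_true, Nat.blt_eq] at h
    set i := par j % 19
    have hi : i < 19 := Nat.mod_lt _ (by norm_num)
    obtain ⟨m, l, g, e⟩ := ih _ h.1 (h.1.trans hj)
    have hb := check_base
    simp only [baseOK, Bool.and_eq_true] at hb
    have hlr := of_all hb.1.1.1.1.1.2 hi
    simp only [Bool.and_eq_true] at hlr
    rw [beq_eq h.2, beq_eq hlr.1, beq_eq hlr.2]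
    obtain ⟨ma, -, ea, -⟩ := xp_spec hf hi
    obtain ⟨mb, -, eb, -⟩ := xp_spec hf (show (19 - i) % 19 < 19 from Nat.mod_lt _ (by norm_num))
    obtain ⟨m1, e1⟩ := qEl_mul hf (yC_mem hf).1 ma
    obtain ⟨m2, e2⟩ := qEl_mul hf mb (yC_mem hf).1
    obtain ⟨m3, e3⟩ := qEl_mul hf m1 m
    obtain ⟨m4, e4⟩ := qEl_mul hf m3 m2
    refine ⟨m4, mul_lt _ _, qY F ω * qX F ω ^ i * g, ?_⟩
    have hy : (qY F ω)⁻¹ = qY F ω := by
      refine inv_eq_of_mul_eq_one_left ?_
      rw [← pow_two, ← qY_order hf hF, pow_orderOf_eq_one]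
    rw [e4, e3, e2, e1, ea, eb, e, qX_pow_sub hf hF i hi, _root_.mul_inv_rev, _root_.mul_inv_rev, hy]
    group

variable (F ω) in
omit hf hF in
/-- A listed involution. -/
noncomputable def invEl (p : ℕ × ℕ) : QQ F ω :=
  qX F ω ^ p.1 * qEl F ω (rep p.2) * (qX F ω ^ p.1)⁻¹

omit hf hF [Fintype F] in
/-- The invariant is unchanged under conjugation by a power, up to the cube of a scalar. -/
theorem trace_key {N : Type*} [Fintype N] [DecidableEq N] (X B : Matrix N N F) {c μ : F} {m n : ℕ}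
    (hqp : X ^ n * X ^ m = μ • (1 : Matrix N N F)) (h3 : c ^ 3 * μ ^ 3 = 1) (q l : ℕ) :
    (X ^ l * (X * (c • (X ^ m * B * X ^ n)) * (X ^ q * (c • (X ^ m * B * X ^ n))) *
      (X * (c • (X ^ m * B * X ^ n))))).trace = (X ^ l * (X * B * (X ^ q * B) * (X * B))).trace := by
  have c1 : ∀ k Y, X ^ k * (X ^ m * Y) = X ^ m * (X ^ k * Y) := fun k Y => by
    rw [← mul_assoc, ← mul_assoc, ← pow_add, ← pow_add, add_comm]
  have c1' : ∀ Y, X * (X ^ m * Y) = X ^ m * (X * Y) := fun Y => by simpa using c1 1 Y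
  have c2 : ∀ Y, X ^ n * (X ^ m * Y) = μ • Y := fun Y => by
    rw [← mul_assoc, hqp, smul_mul_assoc, one_mul]
  simp only [mul_assoc, mul_smul_comm, smul_mul_assoc, smul_smul, Matrix.trace_smul, smul_eq_mul,
    c1 q, c1 l, c1', c2]
  rw [Matrix.trace_mul_comm]
  simp only [mul_assoc, mul_smul_comm, smul_mul_assoc, smul_smul, Matrix.trace_smul, smul_eq_mul,
    hqp, mul_one]
  linear_combination (X ^ l * (X * (B * (X ^ q * (B * (X * B)))))).trace * h3

theorem cube_one {c : F} (hc : c ≠ 0) : c ^ 3 = 1 := by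
  have := FiniteField.pow_card_sub_one_eq_one c hc
  rwa [hF] at this

/-- The key does not change along an orbit. -/
theorem key_congr {a b m : ℕ} (ha : a < 1377) (hb : b < 1377) (hm : m < 19)
    (h : qEl F ω (rep a) = qX F ω ^ m * qEl F ω (rep b) * (qX F ω ^ m)⁻¹) :
    vec (kM (rep a)) = vec (kM (rep b)) := by
  obtain ⟨ma, la, -⟩ := rep_spec hf hF ha
  obtain ⟨mb, -, -⟩ := rep_spec hf hF hb
  set n := (19 - m) % 19 with hn
  obtain ⟨mp, -, ep, dp⟩ := xp_spec hf hm
  obtain ⟨mq, -, eq, dq⟩ := xp_spec hf (show n < 19 from Nat.mod_lt _ (by norm_num))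
  obtain ⟨m1, e1⟩ := qEl_mul hf mp mb
  obtain ⟨m2, e2⟩ := qEl_mul hf m1 mq
  have hs : scalEq (mul (mul (xp m) (rep b)) (xp n)) (rep a) = true :=
    (scalEq_iff hf hF m2 ma (mul_lt _ _) la).2
      (by rw [e2, e1, ep, eq, h, hn, qX_pow_sub hf hF m hm])
  obtain ⟨c, hc, hd⟩ := scalEq_dec hf hs
  rw [dec_mul hf.two hf.omega, dec_mul hf.two hf.omega, dp, dq] at hd
  obtain ⟨s, hs0, hX⟩ := dec_xC_pow hf
  obtain ⟨μ, hμ, hqp⟩ : ∃ μ : F, μ ≠ 0 ∧ dec F ω xC ^ n * dec F ω xC ^ m = μ • (1 : Matrix F9 F9 F) := by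
    rw [← pow_add]
    rcases Nat.eq_zero_or_pos m with rfl | hpos
    · exact ⟨1, one_ne_zero, by simp [hn]⟩
    · exact ⟨s, hs0, by rw [hn, Nat.mod_eq_of_lt (by omega), Nat.sub_add_cancel hm.le]; exact hX⟩
  obtain ⟨-, -, -, d4⟩ := xp_spec hf (show 4 < 19 by norm_num)
  have hlist : ∀ T ∈ lsTab, ∃ l < 19, dec F ω T = (dec F ω (xp l))ᵀ := by
    intro T hT
    have h' := check_trans
    obtain ⟨i, hi, rfl⟩ := List.getElem_of_mem hT
    have hb := check_base
    simp only [baseOK, Bool.and_eq_true] at hb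
    have hlen : lsTab.length = 9 := beq_eq hb.2
    have hL : ∀ l ∈ [7, 9, 3, 12, 18, 2, 1, 15, 0], l < 19 := by decide
    have hi' : i < [7, 9, 3, 12, 18, 2, 1, 15, 0].length := by simpa [hlen] using hi
    have hz := List.all_eq_true.1 h' (lsTab[i], [7, 9, 3, 12, 18, 2, 1, 15, 0][i]'hi') (by
      have : i < (lsTab.zip [7, 9, 3, 12, 18, 2, 1, 15, 0]).length := by
        simp only [List.length_zip, hlen]; simpa [hlen] using hi
      have e := List.getElem_mem this
      rwa [List.getElem_zip] at e)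
    refine ⟨_, hL _ (List.getElem_mem hi'), ?_⟩
    ext z w
    have hz' : bitsAt lsTab[i] z w = bitsAt (xp ([7, 9, 3, 12, 18, 2, 1, 15, 0][i]'hi')) w z :=
      of_decide_eq_true hz z w
    rw [Matrix.transpose_apply, dec_bits, dec_bits]
    exact congrArg (fun e : Bool × Bool => el F ω e.1 e.2) hz'
  have key : ∀ T ∈ lsTab, trc T (kM (rep a)) = trc T (kM (rep b)) := by
    intro T hT
    obtain ⟨l, hl, hT'⟩ := hlist T hT
    refine trc_congr hf hT' ?_
    obtain ⟨-, -, -, dl⟩ := xp_spec hf hl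
    simp only [kM, dec_mul hf.two hf.omega, d4, dl, hd]
    exact trace_key (dec F ω xC) (dec F ω (rep b)) hqp
      (by rw [cube_one hf hF hc, cube_one hf hF hμ, one_mul]) 4 l
  exact vec_congr key

theorem key_at {j : ℕ} (hj : j < 1377) : pos j < 1363 ∧ vec (kM (rep j)) = key (pos j) ∧
    (mA (pos j) = j ∨ mB (pos j) = j) := by
  have h := rep_check hj
  simp only [repOK, force_eq, Bool.and_eq_true, Bool.or_eq_true, Nat.blt_eq] at h
  exact ⟨h.1.1.1.1.2, beq_eq h.1.1.1.2, h.1.1.2.imp beq_eq beq_eq⟩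

theorem rep_not_comm {j : ℕ} (hj : j < 1377) : ¬ Commute (qX F ω) (qEl F ω (rep j)) := by
  intro hc
  have h := rep_check hj
  simp only [repOK, force_eq, Bool.and_eq_true, Bool.not_eq_true'] at h
  obtain ⟨m, -, -⟩ := rep_spec hf hF hj
  obtain ⟨m1, e1⟩ := qEl_mul hf (xC_mem hf).1 m
  obtain ⟨m2, e2⟩ := qEl_mul hf m (xC_mem hf).1
  have := (scalEq_iff hf hF m1 m2 (mul_lt _ _) (mul_lt _ _)).2 (by rw [e1, e2]; exact hc.eq)
  rw [h.1.2] at this
  exact Bool.noConfusion this

theorem orbits_disjoint {a b m : ℕ} (ha : a < 1377) (hb : b < 1377) (hm : m < 19)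
    (h : qEl F ω (rep a) = qX F ω ^ m * qEl F ω (rep b) * (qX F ω ^ m)⁻¹) : a = b := by
  by_contra hne
  obtain ⟨pa, va, sa⟩ := key_at hf hF ha
  obtain ⟨pb, vb, sb⟩ := key_at hf hF hb
  have e := key_congr hf hF ha hb hm h
  rw [va, vb] at e
  have hp : pos a = pos b := by
    rcases lt_trichotomy (pos a) (pos b) with hlt | hlt | hlt
    · exact absurd e (key_lt_key pb hlt).ne
    · exact hlt
    · exact absurd e (key_lt_key pa hlt).ne'
  rw [← hp] at sb
  have hk := check_keys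
  simp only [keysOK, Bool.and_eq_true] at hk
  have hk := of_all hk.2 pa
  simp only [Bool.or_eq_true] at hk
  rcases hk with hk | hk
  · have hAB := beq_eq hk
    exact hne (by rcases sa with s | s <;> rcases sb with t | t <;> omega)
  · have hk := of_all hk hm
    simp only [Bool.and_eq_true, Bool.not_eq_true'] at hk
    obtain ⟨mp, -, ep, -⟩ := xp_spec hf hm
    obtain ⟨ma, -, -⟩ := rep_spec hf hF ha
    obtain ⟨mb, -, -⟩ := rep_spec hf hF hb
    obtain ⟨m1, e1⟩ := qEl_mul hf mp mb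
    obtain ⟨m2, e2⟩ := qEl_mul hf ma mp
    have hs := (scalEq_iff hf hF m1 m2 (mul_lt _ _) (mul_lt _ _)).2
      (by rw [e1, e2, ep, h, inv_mul_cancel_right])
    rcases sa with s | s <;> rcases sb with t | t
    · exact hne (by omega)
    · rw [s, t] at hk; rw [hk.1] at hs; exact Bool.noConfusion hs
    · rw [s, t] at hk; rw [hk.2] at hs; exact Bool.noConfusion hs
    · exact hne (by omega)

theorem invEl_injective : Set.InjOn (invEl F ω)
    (Finset.range 19 ×ˢ Finset.range 1377 : Finset (ℕ × ℕ)) := by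
  rintro ⟨i, a⟩ hp ⟨k, b⟩ hq h
  simp only [Finset.coe_product, Finset.coe_range, Set.mem_prod, Set.mem_Iio] at hp hq
  set m := (k + (19 - i)) % 19 with hm
  have hpow : qX F ω ^ m = (qX F ω ^ i)⁻¹ * qX F ω ^ k := by
    rw [hm, ← pow_eq_pow_mod _ (qX_pow hf hF)]
    refine eq_inv_mul_of_mul_eq ?_
    rw [← pow_add, show i + (k + (19 - i)) = k + 19 by omega, pow_add, qX_pow hf hF, mul_one]
  have h' : qEl F ω (rep a) = qX F ω ^ m * qEl F ω (rep b) * (qX F ω ^ m)⁻¹ := by
    simp only [invEl] at h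
    calc qEl F ω (rep a) = (qX F ω ^ i)⁻¹ * (qX F ω ^ i * qEl F ω (rep a) * (qX F ω ^ i)⁻¹) *
          qX F ω ^ i := by group
      _ = _ := by rw [h, hpow]; group
  obtain rfl := orbits_disjoint hf hF hp.2 hq.2 (Nat.mod_lt _ (by norm_num)) h'
  have hc : Commute (qX F ω ^ m) (qEl F ω (rep a)) := by
    have := eq_mul_inv_iff_mul_eq.1 h'
    exact this.symm
  by_contra hne
  have hm0 : 0 < m ∧ m < 19 := by
    have : i ≠ k := fun e => hne (by rw [e])
    omega
  have hcop : (orderOf (qX F ω)).Coprime m := by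
    rw [qX_order hf hF, Nat.Prime.coprime_iff_not_dvd (by norm_num)]
    exact fun hd => absurd (Nat.le_of_dvd hm0.1 hd) (by omega)
  obtain ⟨r, hr⟩ := exists_pow_eq_self_of_coprime hcop.symm
  exact rep_not_comm hf hF hp.2 (by rw [← hr]; exact hc.pow_left r)

end CfsgLib.Janko3Out
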