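import Cfsg.Agent.Lib.Janko3Out.Reps
import Cfsg.Agent.Lib.KnownA.JankoThreeSchur.Cover

/-!
The outer automorphism of the third Janko group: Frobenius combined with a permutation of the indices.
-/

set_option autoImplicit false
set_option linter.unusedSectionVars false
set_option maxRecDepth 100000

namespace CfsgLib.Janko3Out

open Cfsg.Spor Matrix
open CfsgLib.Janko3
open CfsgLib.KnownA.JankoThreeSchur (prodC scalEq scal_mem dec_scal commutator_GG)
open scoped MatrixGroups

variable {F : Type*} [Field F] [Fintype F] {ω : F} (hf : Field4 F ω) (hF : Fintype.card F = 4)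

/-- The Frobenius automorphism. -/
noncomputable def frob (hf : Field4 F ω) : F ≃+* F :=
  RingEquiv.ofBijective
    ({ toFun := fun x => x ^ 2
       map_one' := one_pow _
       map_mul' := fun x y => mul_pow x y 2
       map_zero' := zero_pow (by norm_num)
       map_add' := fun x y => by linear_combination (x * y) * hf.two } : F →+* F)
    (Finite.injective_iff_bijective.1 (RingHom.injective _))

/-- The reflection of indices as a permutation. -/
def barEquiv : F9 ≃ F9 := Function.Involutive.toPerm bar (by unfold Function.Involutive; decide)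

/-- The automorphism of the matrix ring. -/
noncomputable def sigM (hf : Field4 F ω) : Matrix F9 F9 F ≃+* Matrix F9 F9 F :=
  (frob hf).mapMatrix.trans (Matrix.reindexRingEquiv F barEquiv)

/-- The automorphism of the general linear group. -/
noncomputable def sigGL (hf : Field4 F ω) : GL F9 F ≃* GL F9 F :=
  Units.mapEquiv (sigM hf).toMulEquiv

include hf

theorem el_frob (a b : Bool) : el F ω (a ^^ b) b = frob hf (el F ω a b) := by
  have h := hf.omega
  have h2 := hf.two
  show _ = (el F ω a b) ^ 2
  cases a <;> cases b <;> simp [el] <;>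
    first
      | ring1
      | linear_combination -h + (ω + 1) * h2
      | linear_combination h
      | linear_combination -h

theorem isImg_spec {c c' : ℕ} (h : isImg c c' = true) : dec F ω c' = sigM hf (dec F ω c) := by
  ext z w
  have e : bitsAt c' z w = frobBits (bitsAt c (bar z) (bar w)) := of_decide_eq_true h z w
  rw [dec_bits, e, frobBits, el_frob hf, ← dec_bits]
  rfl

theorem sigGL_gl {c c' : ℕ} (hc : IsUnit (dec F ω c)) (hc' : IsUnit (dec F ω c'))
    (h : isImg c c' = true) : sigGL hf (gl F ω c) = gl F ω c' := by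
  refine Units.ext ?_
  rw [gl_coe hf hc', isImg_spec hf h, ← gl_coe hf hc]
  rfl

/-- The group is generated by the seven codes. -/
theorem GG_le_closure : GG F ω ≤ Subgroup.closure {x | ∃ k < 7, x = gl F ω (gens.getD k one)} := by
  have hg : ∀ g < 6, gens.getD g one = hGen g := by decide
  refine (Subgroup.closure_le _).2 ?_
  rintro x (hx | hx)
  · refine (show HH F ω ≤ _ from (Subgroup.closure_le _).2 ?_) hx
    rintro y ⟨g, hg', rfl⟩
    exact Subgroup.subset_closure ⟨g, by omega, by rw [hg g hg']⟩
  · rw [Set.mem_singleton_iff] at hx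
    exact Subgroup.subset_closure ⟨6, by norm_num, by rw [hx]; rfl⟩

theorem map_GG : (GG F ω).map (sigGL hf).toMonoidHom = GG F ω := by
  refine Subgroup.eq_of_le_of_card_ge ?_ (Subgroup.card_map_of_injective (sigGL hf).injective).symm.le
  refine (Subgroup.map_mono (GG_le_closure hf)).trans ?_
  rw [MonoidHom.map_closure, Subgroup.closure_le]
  rintro _ ⟨_, ⟨k, hk, rfl⟩, rfl⟩
  have h := check_sig
  simp only [sigOK, Bool.and_eq_true] at h
  obtain ⟨m, -, -⟩ := word_spec hf (gens_mem hf) (sigWord.getD k [])
  show sigGL hf _ ∈ GG F ω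
  rw [sigGL_gl hf (gens_mem hf k).1 m.1 (of_all h.1.1.1 hk)]
  exact m.2

omit hf in
/-- The automorphism of the matrix group. -/
noncomputable def sigG (hf : Field4 F ω) : GG F ω ≃* GG F ω :=
  ((GG F ω).equivMapOfInjective (sigGL hf).toMonoidHom (sigGL hf).injective).trans
    (MulEquiv.subgroupCongr (map_GG hf))

omit hf in
/-- The automorphism of the central quotient. -/
noncomputable def sigQ (hf : Field4 F ω) : MulAut (QQ F ω) :=
  QuotientGroup.congr _ _ (sigG hf)
    (Subgroup.characteristic_iff_map_eq.1 inferInstance (sigG hf))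

theorem sigQ_qEl {c c' : ℕ} (hc : Mem F ω c) (hc' : Mem F ω c') (h : isImg c c' = true) :
    sigQ hf (qEl F ω c) = qEl F ω c' := by
  rw [qEl, qEl, dif_pos hc.2, dif_pos hc'.2]
  show QuotientGroup.mk (sigG hf ⟨gl F ω c, hc.2⟩) = _
  exact congrArg _ (Subtype.ext (sigGL_gl hf hc.1 hc'.1 h))

theorem xImg_spec : Mem F ω xImg ∧ xImg < 2 ^ 162 ∧ sigQ hf (qX F ω) = qEl F ω xImg := by
  have h := check_sig
  simp only [sigOK, Bool.and_eq_true, Nat.blt_eq] at h
  have hm : Mem F ω xImg := by
    have hu : IsUnit (dec F ω xImg) := by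
      rw [isImg_spec hf h.1.1.2]
      exact (xC_mem hf).1.1.map (sigM hf)
    refine ⟨hu, ?_⟩
    rw [← sigGL_gl hf (xC_mem hf).1.1 hu h.1.1.2, ← map_GG hf]
    exact ⟨_, (xC_mem hf).1.2, rfl⟩
  exact ⟨hm, h.2, sigQ_qEl hf (xC_mem hf).1 hm h.1.1.2⟩

include hF

/-- The automorphism is outer. -/
theorem sigQ_not_inner : ¬ ∃ g : QQ F ω, ∀ x, sigQ hf x = g * x * g⁻¹ := by
  rintro ⟨g, hg⟩
  induction g using QuotientGroup.induction_on with
  | _ c =>
    have hcen : ∀ x : GG F ω, (c * x * c⁻¹)⁻¹ * sigG hf x ∈ Subgroup.center (GG F ω) := fun x => by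
      rw [← QuotientGroup.eq]
      exact (hg (QuotientGroup.mk x)).symm
    let ζ : GG F ω →* Subgroup.center (GG F ω) :=
      { toFun := fun x => ⟨_, hcen x⟩
        map_one' := Subtype.ext (by simp)
        map_mul' := fun x y => Subtype.ext (by
          show (c * (x * y) * c⁻¹)⁻¹ * sigG hf (x * y) =
            (c * x * c⁻¹)⁻¹ * sigG hf x * ((c * y * c⁻¹)⁻¹ * sigG hf y)
          have hc := Subgroup.mem_center_iff.1 (hcen x) (c * y * c⁻¹)⁻¹
          rw [map_mul, show (c * (x * y) * c⁻¹)⁻¹ * (sigG hf x * sigG hf y) =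
            ((c * y * c⁻¹)⁻¹ * ((c * x * c⁻¹)⁻¹ * sigG hf x)) * sigG hf y by group, hc]
          group) }
    let _ : CommGroup (Subgroup.center (GG F ω)) :=
      { (inferInstance : Group (Subgroup.center (GG F ω))) with
        mul_comm := fun a b => Subtype.ext (Subgroup.mem_center_iff.1 b.2 a) }
    have hker : ∀ x : GG F ω, ζ x = 1 := fun x => by
      have h := Abelianization.commutator_subset_ker ζ
      rw [commutator_GG hF hf] at h
      exact MonoidHom.mem_ker.1 (h (Subgroup.mem_top x))
    have hsig : ∀ x : GG F ω, sigG hf x = c * x * c⁻¹ := fun x => by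
      have h := congrArg Subtype.val (hker x)
      change (c * x * c⁻¹)⁻¹ * sigG hf x = 1 at h
      exact (inv_mul_eq_one.1 h).symm
    have hz : Mem F ω (scal 2) := (scal_mem hf (by simp)).1
    have hz' : Mem F ω (scal 3) := (scal_mem hf (by simp)).1
    have h := check_sig
    simp only [sigOK, Bool.and_eq_true] at h
    have e1 := sigGL_gl hf hz.1 hz'.1 h.1.2
    have e2 := congrArg Subtype.val (hsig ⟨_, hz.2⟩)
    change sigGL hf (gl F ω (scal 2)) = (c : GL F9 F) * gl F ω (scal 2) * (c : GL F9 F)⁻¹ at e2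
    have e3 := eq_mul_inv_iff_mul_eq.1 (e1.symm.trans e2)
    have e4 := congrArg (fun u : GL F9 F => (u : Matrix F9 F9 F)) e3
    simp only [Units.val_mul, gl_coe hf hz.1, gl_coe hf hz'.1, dec_scal hf (c := 2) (by simp),
      dec_scal hf (c := 3) (by simp), smul_mul_assoc, mul_smul_comm, one_mul, mul_one] at e4
    simp only [el, bits, cond_true, cond_false, zero_add] at e4
    have e5 : ((c : GL F9 F) : Matrix F9 F9 F) = 0 := by
      have := sub_eq_zero.2 e4
      rwa [← sub_smul, add_sub_cancel_right, one_smul] at this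
    exact (Units.isUnit (c : GL F9 F)).ne_zero e5

end CfsgLib.Janko3Out
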