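import Cfsg.Agent.Lib.Janko3Out.Invol
import Cfsg.Agent.Lib.Janko3Out.Outer
import Cfsg.Prelude.Def_KGroupFacts

/-!
The outer automorphism group of the third Janko group has order two.
-/

set_option autoImplicit false
set_option linter.unusedSectionVars false
set_option maxRecDepth 100000

namespace CfsgLib.Janko3Out

open Cfsg.Spor Matrix
open CfsgLib.Janko3
open CfsgLib.KnownA.JankoThreeSchur (prodC scalEq scalEq_iff mul_lt card_QQ)
open CfsgLib.InvChar.Coset (force force_eq)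

variable {F : Type*} [Field F] [Fintype F] {ω : F} (hf : Field4 F ω) (hF : Fintype.card F = 4)
include hf hF

/-- The two elements generate. -/
theorem closure_pair : Subgroup.closure ({qX F ω, qY F ω} : Set (QQ F ω)) = ⊤ := by
  refine eq_top_iff.2 fun q _ => ?_
  induction q using QuotientGroup.induction_on with
  | _ x =>
    set K := (Subgroup.closure ({qX F ω, qY F ω} : Set (QQ F ω))).comap
      (QuotientGroup.mk' (Subgroup.center (GG F ω)))
    have hle : GG F ω ≤ K.map (GG F ω).subtype := by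
      refine (GG_le_closure hf).trans ((Subgroup.closure_le _).2 ?_)
      rintro _ ⟨k, hk, rfl⟩
      have hm := gens_mem hf k
      refine ⟨⟨_, hm.2⟩, ?_, rfl⟩
      show QuotientGroup.mk' (Subgroup.center (GG F ω)) ⟨_, hm.2⟩ ∈ Subgroup.closure _
      have hq : qEl F ω (gens.getD k one) =
          QuotientGroup.mk' (Subgroup.center (GG F ω)) ⟨_, hm.2⟩ := by
        rw [qEl, dif_pos hm.2]; rfl
      have htwo : ∀ i, Mem F ω (two.getD i one) := by
        intro i
        rcases i with _ | _ | i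
        exacts [(xC_mem hf).1, (yC_mem hf).1, (qEl_one hf).1]
      obtain ⟨mw, lw, ew⟩ := word_spec hf htwo (genWord.getD k [])
      have hlt : gens.getD k one < 2 ^ 162 := by
        have : ∀ i < 7, gens.getD i one < 2 ^ 162 := by decide +kernel
        exact this k hk
      rw [← hq, ← (scalEq_iff hf hF mw hm lw hlt).1 (of_all check_gens hk), ew]
      refine Subgroup.list_prod_mem _ fun z hz => ?_
      obtain ⟨i, -, rfl⟩ := List.mem_map.1 hz
      rcases i with _ | _ | i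
      · exact Subgroup.subset_closure (Or.inl rfl)
      · exact Subgroup.subset_closure (Or.inr rfl)
      · show qEl F ω one ∈ _
        rw [(qEl_one hf).2]; exact one_mem _
    obtain ⟨y, hy, e⟩ := hle x.2
    obtain rfl : y = x := Subtype.ext e
    exact hy

/-- The defining relations fail at the other representatives. -/
theorem rep_eq_zero {j : ℕ} (hj : j < 1377) (φ : MulAut (QQ F ω)) (hx : φ (qX F ω) = qX F ω)
    (hy : φ (qY F ω) = qEl F ω (rep j)) : j = 0 := by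
  by_contra hne
  have h := rep_check hj
  simp only [repOK, force_eq, Bool.and_eq_true, Bool.or_eq_true, Bool.not_eq_true'] at h
  have h' := h.2.resolve_left fun e => hne (beq_eq e)
  have hb := check_base
  simp only [baseOK, Bool.and_eq_true] at hb
  have hY := hb.1.1.2
  simp only [relsHold, Bool.and_eq_true] at hY
  obtain ⟨m4, -, e4, -⟩ := xp_spec hf (show 4 < 19 by norm_num)
  obtain ⟨m3, -, e3, -⟩ := xp_spec hf (show 3 < 19 by norm_num)
  -- the value of the two words at a member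
  have val : ∀ r, Mem F ω r →
      (Mem F ω (cube (mul (mul xC r) (mul (xp 4) r))) ∧
        qEl F ω (cube (mul (mul xC r) (mul (xp 4) r))) =
          (qX F ω * qEl F ω r * (qX F ω ^ 4 * qEl F ω r)) ^ 3) ∧
      (Mem F ω (eighth (mul (xp 3) r)) ∧
        qEl F ω (eighth (mul (xp 3) r)) = (qX F ω ^ 3 * qEl F ω r) ^ 8) := by
    intro r mr
    obtain ⟨a1, b1⟩ := qEl_mul hf (xC_mem hf).1 mr
    obtain ⟨a2, b2⟩ := qEl_mul hf m4 mr
    obtain ⟨a3, b3⟩ := qEl_mul hf a1 a2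
    obtain ⟨a4, b4⟩ := qEl_mul hf a3 a3
    obtain ⟨a5, b5⟩ := qEl_mul hf a4 a3
    obtain ⟨c1, d1⟩ := qEl_mul hf m3 mr
    obtain ⟨c2, d2⟩ := qEl_mul hf c1 c1
    obtain ⟨c3, d3⟩ := qEl_mul hf c2 c2
    obtain ⟨c4, d4⟩ := qEl_mul hf c3 c3
    refine ⟨⟨a5, ?_⟩, ⟨by rw [eighth, force_eq, force_eq]; exact c4, ?_⟩⟩
    · show qEl F ω (mul (mul _ _) _) = _
      rw [b5, b4, b3, b2, b1, e4, show ∀ a : QQ F ω, a ^ 3 = a * a * a from fun a => pow_three' a]
    · rw [eighth, force_eq, force_eq, d4, d3, d2, d1, e3]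
      simp only [← pow_two, ← pow_mul]
      rfl
  have hlt : ∀ a, cube a < 2 ^ 162 ∧ eighth a < 2 ^ 162 := fun a =>
    ⟨mul_lt _ _, by rw [eighth, force_eq, force_eq]; exact mul_lt _ _⟩
  obtain ⟨mr, -, -⟩ := rep_spec hf hF hj
  obtain ⟨⟨my1, ey1⟩, ⟨my2, ey2⟩⟩ := val yC (yC_mem hf).1
  obtain ⟨⟨mr1, er1⟩, ⟨mr2, er2⟩⟩ := val (rep j) mr
  have r1 : (qX F ω * qEl F ω (rep j) * (qX F ω ^ 4 * qEl F ω (rep j))) ^ 3 = 1 := by
    rw [← hy, ← hx, ← map_pow φ, ← map_mul, ← map_mul, ← map_mul, ← map_pow φ]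
    rw [← ey1, (scalEq_iff hf hF my1 (qEl_one hf).1 (hlt _).1 one_lt).1 hY.1, (qEl_one hf).2, map_one]
  have r2 : (qX F ω ^ 3 * qEl F ω (rep j)) ^ 8 = 1 := by
    rw [← hy, ← hx, ← map_pow φ, ← map_mul, ← map_pow φ]
    rw [← ey2, (scalEq_iff hf hF my2 (qEl_one hf).1 (hlt _).2 one_lt).1 hY.2, (qEl_one hf).2, map_one]
  have s1 := (scalEq_iff hf hF mr1 (qEl_one hf).1 (hlt _).1 one_lt).2
    (by rw [er1, r1, (qEl_one hf).2])
  have s2 := (scalEq_iff hf hF mr2 (qEl_one hf).1 (hlt _).2 one_lt).2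
    (by rw [er2, r2, (qEl_one hf).2])
  rw [s1, s2] at h'
  exact Bool.noConfusion h'

/-- An automorphism fixing the element of order 19 is inner. -/
theorem inner_of_fix (φ : MulAut (QQ F ω)) (hx : φ (qX F ω) = qX F ω) : φ ∈ Cfsg.Inn (QQ F ω) := by
  obtain ⟨i, -, j, hj, e⟩ := exists_invEl hf hF (z := φ (qY F ω))
    ((orderOf_injective φ.toMonoidHom φ.injective _).trans (qY_order hf hF))
  set ψ : MulAut (QQ F ω) := (MulAut.conj (qX F ω ^ i))⁻¹ * φ
  have ψx : ψ (qX F ω) = qX F ω := by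
    show (MulAut.conj (qX F ω ^ i))⁻¹ (φ (qX F ω)) = _
    rw [hx, MulAut.conj_inv_apply]
    group
  have ψy : ψ (qY F ω) = qEl F ω (rep j) := by
    show (MulAut.conj (qX F ω ^ i))⁻¹ (φ (qY F ω)) = _
    rw [e, MulAut.conj_inv_apply, invEl]
    group
  obtain rfl := rep_eq_zero hf hF hj ψ ψx ψy
  have hrep : qEl F ω (rep 0) = qY F ω := by
    have h := rep_check (show 0 < 1377 by norm_num)
    simp only [repOK, force_eq, Bool.and_eq_true, Nat.beq_refl, cond_true] at h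
    rw [beq_eq h.1.1.1.1.1]
  rw [hrep] at ψy
  have h1 : ψ = 1 := by
    refine MulEquiv.toMonoidHom_injective (MonoidHom.eq_of_eqOn_dense (closure_pair hf hF) ?_)
    intro z hz
    rcases hz with rfl | hz
    · exact ψx
    · rw [Set.mem_singleton_iff] at hz
      subst hz
      exact ψy
  exact ⟨qX F ω ^ i, inv_mul_eq_one.1 h1⟩

/-- Modulo inner automorphisms there are at most two automorphisms. -/
theorem inner_or (φ : MulAut (QQ F ω)) :
    φ ∈ Cfsg.Inn (QQ F ω) ∨ (sigQ hf)⁻¹ * φ ∈ Cfsg.Inn (QQ F ω) := by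
  classical
  haveI : Fact (Nat.Prime 19) := ⟨by norm_num⟩
  set P := Subgroup.zpowers (qX F ω)
  have hP : Nat.card P = 19 ^ 1 := by rw [Nat.card_zpowers, qX_order hf hF, pow_one]
  have hPi : ¬ 19 ∣ P.index := by
    have h := Subgroup.card_mul_index P
    rw [hP, card_QQ hf hF] at h
    omega
  set P' := P.map φ.toMonoidHom
  have hP' : Nat.card P' = 19 ^ 1 := by rw [Subgroup.card_map_of_injective φ.injective, hP]
  have hPi' : ¬ 19 ∣ P'.index := by rwa [Subgroup.index_map_of_bijective φ.bijective]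
  obtain ⟨g, hg⟩ := MulAction.exists_smul_eq (QQ F ω) ((IsPGroup.of_card hP').toSylow hPi')
    ((IsPGroup.of_card hP).toSylow hPi)
  have hmem : g * φ (qX F ω) * g⁻¹ ∈ P := by
    show g * φ (qX F ω) * g⁻¹ ∈ (((IsPGroup.of_card hP).toSylow hPi : Sylow 19 (QQ F ω)) : Subgroup _)
    rw [← hg]
    exact ⟨_, ⟨_, Subgroup.mem_zpowers _, rfl⟩, rfl⟩
  obtain ⟨n, hn⟩ := mem_zpowers_iff_mem_range_orderOf.1 hmem |> Finset.mem_image.1
  rw [Finset.mem_range, qX_order hf hF] at hn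
  obtain ⟨hn19, hn⟩ := hn
  rcases n with _ | k
  · rw [pow_zero, eq_comm, conj_eq_one_iff, MulEquiv.map_eq_one_iff] at hn
    have := qX_order hf hF
    rw [hn, orderOf_one] at this
    exact absurd this (by norm_num)
  have h := of_all check_conj (show k < 18 by omega)
  simp only [force_eq] at h
  obtain ⟨mp, -, ep, -⟩ := xp_spec hf hn19
  obtain ⟨mw, -, -⟩ := word_spec hf (gens_mem hf) (conjWord.getD k []).tail
  set c := prodC gens (conjWord.getD k []).tail
  obtain ⟨m2, e2⟩ := qEl_mul hf mp mw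
  rcases Bool.eq_false_or_eq_true (Nat.beq ((conjWord.getD k []).getD 0 0) 0) with hb | hb <;>
    rw [hb] at h
  · left
    simp only [cond_true] at h
    obtain ⟨m1, e1⟩ := qEl_mul hf mw (xC_mem hf).1
    have e := (scalEq_iff hf hF m1 m2 (mul_lt _ _) (mul_lt _ _)).1 h
    rw [e1, e2, ep, hn] at e
    have := inner_of_fix hf hF (MulAut.conj ((qEl F ω c)⁻¹ * g) * φ) (by
      show (qEl F ω c)⁻¹ * g * φ (qX F ω) * ((qEl F ω c)⁻¹ * g)⁻¹ = qX F ω
      calc (qEl F ω c)⁻¹ * g * φ (qX F ω) * ((qEl F ω c)⁻¹ * g)⁻¹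
          = (qEl F ω c)⁻¹ * (g * φ (qX F ω) * g⁻¹ * qEl F ω c) := by group
        _ = qX F ω := by rw [← e, inv_mul_cancel_left])
    exact ((Cfsg.Inn (QQ F ω)).mul_mem_cancel_left (MonoidHom.mem_range.2 ⟨_, rfl⟩)).1 this
  · right
    simp only [cond_false] at h
    obtain ⟨mi, -, ei⟩ := xImg_spec hf
    obtain ⟨m1, e1⟩ := qEl_mul hf mw mi
    have e := (scalEq_iff hf hF m1 m2 (mul_lt _ _) (mul_lt _ _)).1 h
    rw [e1, e2, ep, hn, ← ei] at e
    set u := (qEl F ω c)⁻¹ * g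
    have hu : u * φ (qX F ω) * u⁻¹ = sigQ hf (qX F ω) := by
      calc u * φ (qX F ω) * u⁻¹
          = (qEl F ω c)⁻¹ * (g * φ (qX F ω) * g⁻¹ * qEl F ω c) := by simp only [u]; group
        _ = _ := by rw [← e, inv_mul_cancel_left]
    have := inner_of_fix hf hF ((sigQ hf)⁻¹ * (MulAut.conj u * φ)) (by
      show (sigQ hf)⁻¹ (u * φ (qX F ω) * u⁻¹) = qX F ω
      rw [hu]; exact (sigQ hf).symm_apply_apply _)
    have hsplit : (sigQ hf)⁻¹ * (MulAut.conj u * φ) =
        ((sigQ hf)⁻¹ * MulAut.conj u * sigQ hf) * ((sigQ hf)⁻¹ * φ) := by group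
    rw [hsplit] at this
    refine ((Cfsg.Inn (QQ F ω)).mul_mem_cancel_left ?_).1 this
    have := (Cfsg.innNormal (QQ F ω)).conj_mem _ (MonoidHom.mem_range.2 ⟨u, rfl⟩) (sigQ hf)⁻¹
    rwa [inv_inv] at this

theorem card_out_QQ : Nat.card (Cfsg.Out (QQ F ω)) = 2 := by
  show (Cfsg.Inn (QQ F ω)).index = 2
  refine Subgroup.index_eq_two_iff_exists_notMem_and.2 ⟨sigQ hf, ?_, fun b => ?_⟩
  · rintro ⟨g, hg⟩
    exact sigQ_not_inner hf hF ⟨g, fun x => by rw [← hg]; rfl⟩
  · rcases inner_or hf hF (b * sigQ hf) with h | h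
    · exact Or.inl h
    · right
      have := (Cfsg.innNormal (QQ F ω)).conj_mem _ h (sigQ hf)
      rwa [show sigQ hf * ((sigQ hf)⁻¹ * (b * sigQ hf)) * (sigQ hf)⁻¹ = b by group] at this

omit hf in
theorem card_out_J3 (hω : ω ^ 2 + ω + 1 = 0) : Nat.card (Cfsg.Out (Cfsg.Spor.J3 F ω)) = 2 := by
  have hf := field4_of_card hF hω
  have hE : threeJ3 F ω = GG F ω := threeJ3_eq hf
  show Nat.card (Cfsg.Out (threeJ3 F ω ⧸ Subgroup.center (threeJ3 F ω))) = 2
  refine Eq.trans ?_ (card_out_QQ hf hF)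
  let e₀ : threeJ3 F ω ≃* GG F ω := MulEquiv.subgroupCongr hE
  have hc : (Subgroup.center (threeJ3 F ω)).map e₀.toMonoidHom = Subgroup.center (GG F ω) := by
    ext y
    constructor
    · rintro ⟨x, hx, rfl⟩
      exact Subgroup.mem_center_iff.2 fun z => e₀.symm.injective (by
        simpa using Subgroup.mem_center_iff.1 hx (e₀.symm z))
    · intro hy
      refine ⟨e₀.symm y, Subgroup.mem_center_iff.2 fun z => e₀.injective (by
        simpa using Subgroup.mem_center_iff.1 hy (e₀ z)), by simp⟩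
  let e₁ : (threeJ3 F ω ⧸ Subgroup.center (threeJ3 F ω)) ≃* QQ F ω :=
    QuotientGroup.congr _ _ e₀ hc
  let e := MulAut.congr e₁
  have hmap : (Cfsg.Inn (threeJ3 F ω ⧸ Subgroup.center (threeJ3 F ω))).map e.toMonoidHom =
      Cfsg.Inn (QQ F ω) := by
    ext ψ
    constructor
    · rintro ⟨_, ⟨g, rfl⟩, rfl⟩
      refine ⟨e₁ g, MulEquiv.ext fun x => ?_⟩
      simp [e, MulAut.congr]
    · rintro ⟨g, rfl⟩
      refine ⟨MulAut.conj (e₁.symm g), ⟨_, rfl⟩, MulEquiv.ext fun x => ?_⟩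
      simp [e, MulAut.congr]
  exact Nat.card_congr (QuotientGroup.congr _ _ e hmap).toEquiv

end CfsgLib.Janko3Out
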