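import Cfsg.Agent.Lib.Janko3Out.Defs

/-!
Kernel checks: powers, keys, centraliser, generation, automorphism.
-/

set_option autoImplicit false
set_option maxRecDepth 100000
set_option maxHeartbeats 0

namespace CfsgLib.Janko3Out

theorem check_base : baseOK = true := by decide +kernel

theorem check_trans : transOK = true := by decide +kernel

theorem check_keys : keysOK = true := by decide +kernel

theorem check_syl : sylOK = true := by decide +kernel

theorem check_cent : centOK = true := by decide +kernel

theorem check_gens : genOK = true := by decide +kernel

theorem check_conj : conjOK = true := by decide +kernel

theorem check_sig : sigOK = true := by decide +kernel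

end CfsgLib.Janko3Out
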