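import Cfsg.Agent.Lib.Janko3Out.Trace
import Cfsg.Agent.Lib.Janko3Out.Data
import Cfsg.Agent.Lib.KnownA.JankoThreeSchur.Check

/-!
The checks behind the involutions and the automorphisms of the third Janko group.
-/

set_option autoImplicit false
set_option maxRecDepth 100000

namespace CfsgLib.Janko3Out

open CfsgLib.Janko3
open CfsgLib.KnownA.JankoThreeSchur (prodC scalEq)
open CfsgLib.InvChar.Coset (force force_eq)

/-- The seven generators. -/
def gens : List ℕ := [hGen 0, hGen 1, hGen 2, hGen 3, hGen 4, hGen 5, gen1]

/-- An element of order 19. -/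
def xC : ℕ := xTab.getD 1 one

/-- An involution. -/
def yC : ℕ := hGen 5

/-- The pair of elements. -/
def two : List ℕ := [xC, yC]

/-- A power of the element of order 19. -/
def xp (i : ℕ) : ℕ := xTab.getD i one

/-- An orbit representative. -/
def rep (j : ℕ) : ℕ := (repTab.getD (j / 51) []).getD (j % 51) one

/-- The parent of a representative. -/
def par (j : ℕ) : ℕ := (parTab.getD (j / 51) []).getD (j % 51) 0

/-- The position of the key of a representative. -/
def pos (j : ℕ) : ℕ := (posTab.getD (j / 51) []).getD (j % 51) 0

/-- A key. -/
def key (p : ℕ) : ℕ := (keyTab.getD (p / 50) []).getD (p % 50) 0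

/-- A representative with a given key. -/
def mA (p : ℕ) : ℕ := (memA.getD (p / 50) []).getD (p % 50) 0

/-- The last representative with a given key. -/
def mB (p : ℕ) : ℕ := (memB.getD (p / 50) []).getD (p % 50) 0

/-- The traces. -/
def vec (M : ℕ) : ℕ := lsTab.foldr (fun T acc => trc T M ||| (acc <<< 2)) 0

/-- The invariant word at an element. -/
def kM (r : ℕ) : ℕ := mul (mul (mul xC r) (mul (xp 4) r)) (mul xC r)

/-- Third power. -/
noncomputable def cube (a : ℕ) : ℕ := mul (mul a a) a

/-- Eighth power. -/
noncomputable def eighth (a : ℕ) : ℕ :=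
  force (mul a a) fun b => force (mul b b) fun c => mul c c

/-- The two relations hold at an element. -/
noncomputable def relsHold (r : ℕ) : Bool :=
  scalEq (cube (mul (mul xC r) (mul (xp 4) r))) one && scalEq (eighth (mul (xp 3) r)) one

/-- The chain, the key, the position, no fixed point, and a failing relation. -/
noncomputable def repOK (j : ℕ) : Bool :=
  force (rep j) fun r => force (mul xC r) fun t => force (mul t (mul (xp 4) r)) fun tv =>
    (bif Nat.beq j 0 then Nat.beq r yC
      else Nat.blt (par j / 19) j &&
        Nat.beq r (mul (mul (lTab.getD (par j % 19) one) (rep (par j / 19))) (rTab.getD (par j % 19) one))) &&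
    Nat.blt (pos j) 1363 && Nat.beq (vec (mul tv t)) (key (pos j)) &&
    (Nat.beq (mA (pos j)) j || Nat.beq (mB (pos j)) j) && !scalEq t (mul r xC) &&
    (Nat.beq j 0 || !(scalEq (cube tv) one && scalEq (eighth (mul (xp 3) r)) one))

/-- The checks of the representatives in one block. -/
noncomputable def blockOK (q : ℕ) : Bool := (List.range 153).all fun a => repOK (153 * q + a)

/-- Keys increase; representatives sharing a key lie in different orbits. -/
noncomputable def keysOK : Bool :=
  (List.range 1362).all (fun p => Nat.blt (key p) (key (p + 1))) &&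
    (List.range 1363).all fun p => Nat.beq (mA p) (mB p) ||
      ((List.range 19).all fun m =>
        !scalEq (mul (xp m) (rep (mB p))) (mul (rep (mA p)) (xp m)) &&
        !scalEq (mul (xp m) (rep (mA p))) (mul (rep (mB p)) (xp m)))

/-- The powers and the two multipliers of the chain. -/
noncomputable def baseOK : Bool :=
  Nat.beq (xp 0) one && Nat.beq xC (prodC gens [5, 6, 1, 3]) &&
    ((List.range 18).all fun i => Nat.beq (xp (i + 1)) (mul (xp i) xC)) &&
    scalEq (mul (xp 18) xC) one && !scalEq xC one &&
    ((List.range 19).all fun i => Nat.beq (lTab.getD i one) (mul yC (xp i)) &&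
      Nat.beq (rTab.getD i one) (mul (xp ((19 - i) % 19)) yC)) &&
    scalEq (mul yC yC) one && !scalEq yC one && relsHold yC &&
    Nat.blt yC (2 ^ 162) && Nat.beq lsTab.length 9

/-- The transposes. -/
def transOK : Bool :=
  (lsTab.zip [7, 9, 3, 12, 18, 2, 1, 15, 0]).all fun p => decide (∀ z w : Cfsg.Spor.F9,
    bitsAt p.1 z w = bitsAt (xp p.2) w z)

/-- Involutions of the Sylow subgroup lie among the listed conjugates. -/
noncomputable def sylOK : Bool :=
  (List.range 128).all fun d => force (sylEl d) fun s =>
    scalEq (mul (sylEl 64) s) (mul s (sylEl 64)) &&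
    (Nat.beq d 0 || !scalEq (mul s s) one ||
      (Nat.blt (sylInv.getD d 0) 26163 &&
        scalEq s (mul (mul (xp (sylInv.getD d 0 % 19)) (rep (sylInv.getD d 0 / 19)))
          (xp ((19 - sylInv.getD d 0 % 19) % 19)))))

/-- Two elements of odd order commute with the central involution. -/
noncomputable def centOK : Bool :=
  (List.range 2).all (fun k => force (centTab.getD k one) fun u =>
    Nat.beq u (prodC gens (centWord.getD k [])) &&
      scalEq (mul (sylEl 64) u) (mul u (sylEl 64)) && !scalEq u one) &&
    scalEq (mul (sylEl 64) (sylEl 64)) one && !scalEq (sylEl 64) one &&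
    scalEq (cube (centTab.getD 0 one)) one &&
    (force (centTab.getD 1 one) fun u => force (mul u u) fun v => scalEq (mul (mul v v) u) one)

/-- The pair generates. -/
noncomputable def genOK : Bool :=
  (List.range 7).all fun g => scalEq (prodC two (genWord.getD g [])) (gens.getD g one)

/-- The powers are conjugate to the element of order 19 or to its image. -/
noncomputable def conjOK : Bool :=
  (List.range 18).all fun k => force (prodC gens ((conjWord.getD k []).tail)) fun c =>
    scalEq (mul c (bif Nat.beq ((conjWord.getD k []).getD 0 0) 0 then xC else xImg))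
      (mul (xp (k + 1)) c)

/-- Reflection of an index. -/
def bar (z : Cfsg.Spor.F9) : Cfsg.Spor.F9 := (z.1, -z.2)

/-- Conjugation of a pair of bits. -/
def frobBits (e : Bool × Bool) : Bool × Bool := (e.1 ^^ e.2, e.2)

/-- A code is the image of another under the outer automorphism. -/
def isImg (c c' : ℕ) : Bool :=
  decide (∀ z w : Cfsg.Spor.F9, bitsAt c' z w = frobBits (bitsAt c (bar z) (bar w)))

/-- The images of the generators, the element of order 19 and a scalar. -/
noncomputable def sigOK : Bool :=
  ((List.range 7).all fun g => isImg (gens.getD g one) (prodC gens (sigWord.getD g []))) &&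
    isImg xC xImg && isImg (scal 2) (scal 3) && Nat.blt xImg (2 ^ 162)

end CfsgLib.Janko3Out
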