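import Cfsg.Agent.Lib.Janko3Out.Reps
import Cfsg.Agent.Lib.KnownA.JankoThreeSchur.Cover

/-!
The third Janko group has one class of involutions, of size 26163.
-/

set_option autoImplicit false
set_option linter.unusedSectionVars false
set_option maxRecDepth 100000

namespace CfsgLib.Janko3Out

open Cfsg.Spor Matrix
open CfsgLib.Janko3
open CfsgLib.KnownA.JankoThreeSchur (prodC scalEq scalEq_iff mul_lt card_QQ)
open CfsgLib.InvChar.Coset (force force_eq)

variable {F : Type*} [Field F] [Fintype F] {ω : F} (hf : Field4 F ω) (hF : Fintype.card F = 4)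
include hf hF

theorem eq_of_scalEq {a b : ℕ} (ha : Mem F ω a) (hb : Mem F ω b) (hal : a < 2 ^ 162) (hbl : b < 2 ^ 162)
    (h : scalEq a b = true) : qEl F ω a = qEl F ω b := (scalEq_iff hf hF ha hb hal hbl).1 h

omit hf hF in
theorem sylEl_lt {d : ℕ} (hd : d < 128) : sylEl d < 2 ^ 162 := by
  have h := of_all check_syl_scal hd
  simp only [Bool.and_eq_true, Nat.blt_eq] at h
  exact h.1

variable (F ω) in
omit hf hF [Fintype F] in
/-- The involution central in the Sylow subgroup. -/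
noncomputable abbrev qT : QQ F ω := qEl F ω (sylEl 64)

/-- Elements of the Sylow subgroup commute with the central involution. -/
theorem syl_comm {d : ℕ} (hd : d < 128) :
    qT F ω * qEl F ω (sylEl d) = qEl F ω (sylEl d) * qT F ω := by
  have h := of_all check_syl hd
  simp only [force_eq, Bool.and_eq_true] at h
  obtain ⟨m1, e1⟩ := qEl_mul hf (mem_syl hf (show 64 < 128 by norm_num)) (mem_syl hf hd)
  obtain ⟨m2, e2⟩ := qEl_mul hf (mem_syl hf hd) (mem_syl hf (show 64 < 128 by norm_num))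
  rw [← e1, ← e2]
  exact eq_of_scalEq hf hF m1 m2 (mul_lt _ _) (mul_lt _ _) h.1

/-- An involution of the Sylow subgroup is a conjugate of the standard involution. -/
theorem syl_conj {d : ℕ} (hd : d < 128) (h0 : qEl F ω (sylEl d) ≠ 1)
    (h2 : qEl F ω (sylEl d) * qEl F ω (sylEl d) = 1) :
    IsConj (qY F ω) (qEl F ω (sylEl d)) := by
  have h := of_all check_syl hd
  simp only [force_eq, Bool.and_eq_true, Bool.or_eq_true, Bool.not_eq_true', Nat.blt_eq] at h
  obtain ⟨m, e⟩ := qEl_mul hf (mem_syl hf hd) (mem_syl hf hd)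
  rcases h.2 with (h | h) | ⟨hp, hs⟩
  · refine absurd ?_ h0
    rw [beq_eq h]
    exact (syl_facts hf hF).zero
  · have := (scalEq_iff hf hF m (qEl_one hf).1 (mul_lt _ _) one_lt).2 (by rw [e, h2, (qEl_one hf).2])
    rw [h] at this
    exact Bool.noConfusion this
  · set p := sylInv.getD d 0
    have hi : p % 19 < 19 := Nat.mod_lt _ (by norm_num)
    obtain ⟨ma, -, ea, -⟩ := xp_spec hf hi
    obtain ⟨mb, -, eb, -⟩ := xp_spec hf (show (19 - p % 19) % 19 < 19 from Nat.mod_lt _ (by norm_num))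
    obtain ⟨mr, -, g, hg⟩ := rep_spec hf hF (show p / 19 < 1377 by omega)
    obtain ⟨m1, e1⟩ := qEl_mul hf ma mr
    obtain ⟨m2, e2⟩ := qEl_mul hf m1 mb
    rw [eq_of_scalEq hf hF (mem_syl hf hd) m2 (sylEl_lt hd) (mul_lt _ _) hs, e2, e1, ea, eb,
      qX_pow_sub hf hF _ hi, hg, isConj_iff]
    exact ⟨qX F ω ^ (p % 19) * g, by group⟩

theorem qT_spec : qT F ω ≠ 1 ∧ qT F ω * qT F ω = 1 := by
  have h := check_cent
  simp only [centOK, Bool.and_eq_true, Bool.not_eq_true'] at h
  obtain ⟨m, e⟩ := qEl_mul hf (mem_syl hf (show 64 < 128 by norm_num)) (mem_syl hf (show 64 < 128 by norm_num))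
  refine ⟨fun e1 => ?_, ?_⟩
  · have := (scalEq_iff hf hF (mem_syl hf (show 64 < 128 by norm_num)) (qEl_one hf).1
      (sylEl_lt (by norm_num)) one_lt).2 (e1.trans (qEl_one hf).2.symm)
    rw [h.1.1.2] at this
    exact Bool.noConfusion this
  · rw [← e, eq_of_scalEq hf hF m (qEl_one hf).1 (mul_lt _ _) one_lt h.1.1.1.2, (qEl_one hf).2]

/-- All involutions are conjugate to the standard one. -/
theorem isConj_qY {z : QQ F ω} (hz : orderOf z = 2) : IsConj (qY F ω) z := by
  haveI : Fact (Nat.Prime 2) := ⟨Nat.prime_two⟩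
  have H := syl_facts hf hF
  have hcard : Nat.card (CfsgLib.Fusion.TableSylow.sylow H) = 128 := by rw [CfsgLib.Fusion.TableSylow.sylow_card H]; rfl
  have hidx : ¬ 2 ∣ (CfsgLib.Fusion.TableSylow.sylow H).index := by
    have hm := Subgroup.card_mul_index (CfsgLib.Fusion.TableSylow.sylow H)
    rw [hcard, card_QQ hf hF] at hm
    omega
  let S : Sylow 2 (QQ F ω) := (IsPGroup.of_card (n := 7) hcard).toSylow hidx
  obtain ⟨Q, hQ⟩ := (IsPGroup.of_card (p := 2) (n := 1)
    (show Nat.card (Subgroup.zpowers z) = 2 ^ 1 by rw [Nat.card_zpowers, hz, pow_one])).exists_le_sylow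
  obtain ⟨g, hg⟩ := MulAction.exists_smul_eq (QQ F ω) Q S
  have hmem : g * z * g⁻¹ ∈ CfsgLib.Fusion.TableSylow.sylow H := by
    show g * z * g⁻¹ ∈ (S : Subgroup (QQ F ω))
    rw [← hg]
    exact ⟨z, hQ (Subgroup.mem_zpowers z), rfl⟩
  obtain ⟨d, hd, -, he⟩ := hmem
  have hz2 : z * z = 1 := by rw [← pow_two, ← hz, pow_orderOf_eq_one]
  have hne : z ≠ 1 := fun e => by rw [e, orderOf_one] at hz; norm_num at hz
  replace he : qEl F ω (sylEl d) = g * z * g⁻¹ := he
  have key := syl_conj hf hF (show d < 128 from hd) (by rw [he, Ne, conj_eq_one_iff]; exact hne)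
    (by rw [he, show g * z * g⁻¹ * (g * z * g⁻¹) = g * (z * z) * g⁻¹ by group, hz2]; group)
  rw [he] at key
  exact key.trans (isConj_iff.2 ⟨g⁻¹, by group⟩)

theorem isConj_qT {z : QQ F ω} (hz : orderOf z = 2) : IsConj (qT F ω) z := by
  haveI : Fact (Nat.Prime 2) := ⟨Nat.prime_two⟩
  have ht : orderOf (qT F ω) = 2 :=
    orderOf_eq_prime (by rw [pow_two]; exact (qT_spec hf hF).2) (qT_spec hf hF).1
  exact (isConj_qY hf hF ht).symm.trans (isConj_qY hf hF hz)

/-- The centraliser of the central involution has order at least 1920. -/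
theorem le_card_centralizer : 1920 ≤ Nat.card (Subgroup.centralizer ({qT F ω} : Set (QQ F ω))) := by
  set C := Subgroup.centralizer ({qT F ω} : Set (QQ F ω))
  have H := syl_facts hf hF
  have h128 : 128 ∣ Nat.card C := by
    have hle : CfsgLib.Fusion.TableSylow.sylow H ≤ C := by
      rintro _ ⟨d, hd, -, rfl⟩
      exact Subgroup.mem_centralizer_singleton_iff.2 (syl_comm hf hF (show d < 128 from hd)).symm
    have h := Subgroup.card_dvd_of_le hle
    rwa [CfsgLib.Fusion.TableSylow.sylow_card H] at h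
  have hc := check_cent
  simp only [centOK, force_eq, Bool.and_eq_true, Bool.not_eq_true'] at hc
  obtain ⟨⟨⟨⟨hu, -⟩, -⟩, h3⟩, h5⟩ := hc
  have hmem : ∀ k < 2, Mem F ω (centTab.getD k one) ∧ centTab.getD k one < 2 ^ 162 ∧
      qEl F ω (centTab.getD k one) ∈ C ∧ qEl F ω (centTab.getD k one) ≠ 1 := by
    intro k hk
    have h := of_all hu hk
    simp only [force_eq, Bool.and_eq_true, Bool.not_eq_true'] at h
    obtain ⟨⟨h1, h2⟩, h3⟩ := h
    obtain ⟨m, l, -⟩ : Mem F ω (centTab.getD k one) ∧ centTab.getD k one < 2 ^ 162 ∧ True := by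
      rw [beq_eq h1]
      exact ⟨(word_spec hf (gens_mem hf) _).1, (word_spec hf (gens_mem hf) _).2.1, trivial⟩
    refine ⟨m, l, ?_, fun e => ?_⟩
    · obtain ⟨m1, e1⟩ := qEl_mul hf (mem_syl hf (show 64 < 128 by norm_num)) m
      obtain ⟨m2, e2⟩ := qEl_mul hf m (mem_syl hf (show 64 < 128 by norm_num))
      refine Subgroup.mem_centralizer_singleton_iff.2 ?_
      rw [← e1, ← e2]
      exact (eq_of_scalEq hf hF m1 m2 (mul_lt _ _) (mul_lt _ _) h2).symm
    · have := (scalEq_iff hf hF m (qEl_one hf).1 l one_lt).2 (e.trans (qEl_one hf).2.symm)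
      rw [h3] at this
      exact Bool.noConfusion this
  have hdvd : ∀ p k, p.Prime → k < 2 → qEl F ω (centTab.getD k one) ^ p = 1 → p ∣ Nat.card C := by
    intro p k hp hk he
    haveI : Fact p.Prime := ⟨hp⟩
    obtain ⟨-, -, hC, hne⟩ := hmem k hk
    rw [← orderOf_eq_prime he hne]
    exact Subgroup.orderOf_dvd_natCard C hC
  obtain ⟨ma, la, -, -⟩ := hmem 0 (by norm_num)
  obtain ⟨mb, lb, -, -⟩ := hmem 1 (by norm_num)
  have d3 : 3 ∣ Nat.card C := by
    refine hdvd 3 0 Nat.prime_three (by norm_num) ?_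
    obtain ⟨m1, e1⟩ := qEl_mul hf ma ma
    obtain ⟨m2, e2⟩ := qEl_mul hf m1 ma
    rw [pow_succ, pow_two, ← e1, ← e2, eq_of_scalEq hf hF m2 (qEl_one hf).1 (mul_lt _ _) one_lt h3,
      (qEl_one hf).2]
  have d5 : 5 ∣ Nat.card C := by
    refine hdvd 5 1 (by norm_num) (by norm_num) ?_
    obtain ⟨m1, e1⟩ := qEl_mul hf mb mb
    obtain ⟨m2, e2⟩ := qEl_mul hf m1 m1
    obtain ⟨m3, e3⟩ := qEl_mul hf m2 mb
    rw [pow_succ, show (4 : ℕ) = 2 * 2 from rfl, pow_mul, pow_two, pow_two, ← e1, ← e2, ← e3,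
      eq_of_scalEq hf hF m3 (qEl_one hf).1 (mul_lt _ _) one_lt h5, (qEl_one hf).2]
  have hdiv : 128 * 15 ∣ Nat.card C :=
    Nat.Coprime.mul_dvd_of_dvd_of_dvd (by norm_num) h128
      (show 15 ∣ _ from Nat.Coprime.mul_dvd_of_dvd_of_dvd (by norm_num : Nat.Coprime 3 5) d3 d5)
  exact Nat.le_of_dvd Nat.card_pos hdiv

/-- Every involution is in the list. -/
theorem exists_invEl {z : QQ F ω} (hz : orderOf z = 2) :
    ∃ i < 19, ∃ j < 1377, z = invEl F ω (i, j) := by
  classical
  let _ : Fintype (QQ F ω) := Fintype.ofFinite _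
  set O := MulAction.orbit (ConjAct (QQ F ω)) (qT F ω)
  have hO : ∀ w : QQ F ω, orderOf w = 2 → w ∈ O := fun w hw =>
    ConjAct.mem_orbit_conjAct.2 (isConj_qT hf hF hw).symm
  set T : Finset (QQ F ω) := (Finset.range 19 ×ˢ Finset.range 1377).image (invEl F ω)
  have hT : T.card = 26163 := by
    rw [Finset.card_image_of_injOn (invEl_injective hf hF), Finset.card_product, Finset.card_range,
      Finset.card_range]
  have hsub : T ⊆ O.toFinset := by
    intro w hw
    obtain ⟨⟨i, j⟩, hp, rfl⟩ := Finset.mem_image.1 hw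
    simp only [Finset.mem_product, Finset.mem_range] at hp
    obtain ⟨-, -, g, hg⟩ := rep_spec hf hF hp.2
    rw [Set.mem_toFinset]
    refine hO _ ?_
    have hc : IsConj (qY F ω) (invEl F ω (i, j)) :=
      isConj_iff.2 ⟨qX F ω ^ i * g, by simp only [invEl, hg]; group⟩
    rw [← qY_order hf hF]
    obtain ⟨c, hc⟩ := isConj_iff.1 hc
    rw [← hc]
    exact (orderOf_injective (MulAut.conj c).toMonoidHom (MulAut.conj c).injective _)
  have hle : O.toFinset.card ≤ 26163 := by
    rw [Set.toFinset_card, ← Nat.card_eq_fintype_card]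
    have h := MulAction.card_orbit_mul_card_stabilizer_eq_card_group (ConjAct (QQ F ω)) (qT F ω)
    simp only [← Nat.card_eq_fintype_card] at h
    have hs : Nat.card (MulAction.stabilizer (ConjAct (QQ F ω)) (qT F ω)) =
        Nat.card (Subgroup.centralizer ({qT F ω} : Set (QQ F ω))) := by
      rw [ConjAct.stabilizer_eq_centralizer]
      rfl
    rw [show Nat.card (ConjAct (QQ F ω)) = Nat.card (QQ F ω) from rfl, card_QQ hf hF, hs] at h
    have := le_card_centralizer hf hF
    nlinarith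
  have heq : T = O.toFinset := Finset.eq_of_subset_of_card_le hsub (by omega)
  have hmem : z ∈ T := by rw [heq, Set.mem_toFinset]; exact hO z hz
  obtain ⟨⟨i, j⟩, hp, rfl⟩ := Finset.mem_image.1 hmem
  simp only [Finset.mem_product, Finset.mem_range] at hp
  exact ⟨i, hp.1, j, hp.2, rfl⟩

end CfsgLib.Janko3Out
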