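import Cfsg.Agent.Lib.Janko3.Basic

/-!
The trace of a product of two matrix codes, read from an entrywise product.
-/

set_option autoImplicit false
set_option linter.unusedSectionVars false

namespace CfsgLib.Janko3Out

open Cfsg.Spor Matrix
open CfsgLib.Janko3

/-- The bits in even position below 162. -/
def evens : ℕ := (4 ^ 81 - 1) / 3

/-- The entrywise product of two codes. -/
def ew (A B : ℕ) : ℕ :=
  (((A &&& B) ^^^ ((A >>> 1) &&& (B >>> 1))) &&& evens) |||
    ((((A &&& (B >>> 1)) ^^^ ((A >>> 1) &&& B) ^^^ ((A >>> 1) &&& (B >>> 1))) &&& evens) <<< 1)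

/-- The sum of three entries at distance `m`. -/
def fold3 (m v : ℕ) : ℕ := v ^^^ (v >>> (2 * m)) ^^^ (v >>> (4 * m))

/-- The trace of the product with a transposed code. -/
def trc (T M : ℕ) : ℕ := fold3 27 (fold3 9 (fold3 3 (fold3 1 (ew M T)))) &&& 3

theorem testBit_evens' : ∀ k < 81, evens.testBit (2 * k) = true ∧ evens.testBit (2 * k + 1) = false := by
  decide +kernel

theorem trc_lt (T M : ℕ) : trc T M < 4 := Nat.and_le_right.trans_lt (by norm_num)

variable {F : Type*} [Field F] {ω : F} (hf : Field4 F ω)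
include hf

theorem el_prod (a b c d : Bool) :
    el F ω (a && c ^^ b && d) ((a && d ^^ b && c) ^^ b && d) = el F ω a b * el F ω c d := by
  have h := hf.omega
  have h2 := hf.two
  cases a <;> cases b <;> cases c <;> cases d <;> simp [el] <;>
    first
      | ring1
      | linear_combination -h + (ω + 1) * h2
      | linear_combination h
      | linear_combination -h
      | linear_combination h2
      | linear_combination -h2
      | linear_combination -h + h2

theorem ent_ew (A B : ℕ) {k : ℕ} (hk : k < 81) :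
    ent F ω (ew A B) k = ent F ω A k * ent F ω B k := by
  obtain ⟨e0, e1⟩ := testBit_evens' k hk
  have z : ∀ x : ℕ, ((x &&& evens) <<< 1).testBit (2 * k) = false := by
    intro x
    rcases k with _ | k
    · simp
    · rw [Nat.testBit_shiftLeft, show 2 * (k + 1) - 1 = 2 * k + 1 by omega, Nat.testBit_and,
        (testBit_evens' k (by omega)).2]
      simp
  have b0 : (ew A B).testBit (2 * k) = (A.testBit (2 * k) && B.testBit (2 * k) ^^
      A.testBit (2 * k + 1) && B.testBit (2 * k + 1)) := by
    rw [ew, Nat.testBit_or, z, Bool.or_false, Nat.testBit_and, e0, Bool.and_true]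
    simp [Nat.testBit_xor, Nat.testBit_and, Nat.testBit_shiftRight, Nat.add_comm 1]
  have b1 : (ew A B).testBit (2 * k + 1) = ((A.testBit (2 * k) && B.testBit (2 * k + 1) ^^
      A.testBit (2 * k + 1) && B.testBit (2 * k)) ^^
      A.testBit (2 * k + 1) && B.testBit (2 * k + 1)) := by
    rw [ew, Nat.testBit_or, Nat.testBit_and, e1, Bool.and_false, Bool.false_or,
      Nat.testBit_shiftLeft, Nat.add_sub_cancel, Nat.testBit_and, e0, Bool.and_true]
    simp [Nat.testBit_xor, Nat.testBit_and, Nat.testBit_shiftRight, Nat.add_comm 1]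
  rw [ent, b0, b1, el_prod hf]
  rfl

theorem ent_fold3 (m v k : ℕ) :
    ent F ω (fold3 m v) k = ent F ω v k + ent F ω v (k + m) + ent F ω v (k + 2 * m) := by
  have e : ∀ n j : ℕ, ent F ω (v >>> (2 * n)) j = ent F ω v (j + n) := by
    intro n j
    simp only [ent, Nat.testBit_shiftRight]
    congr 2 <;> ring
  rw [fold3, ent_xor hf.two, ent_xor hf.two, e, show 4 * m = 2 * (2 * m) by ring, e]

theorem ent_and_three (v : ℕ) : ent F ω (v &&& 3) 0 = ent F ω v 0 := by
  simp [ent, Nat.testBit_and, show Nat.testBit 3 1 = true from rfl]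

omit hf in
theorem dec_apply (M : ℕ) (z w : F9) : dec F ω M z w = ent F ω M (9 * ix z + ix w) := by
  have := ix_lt w
  simp only [dec, Matrix.of_apply, ent]
  rw [testBit_row (by omega), testBit_row (by omega)]
  congr 2 <;> ring

/-- The value of `trc`. -/
theorem ent_trc {T X : ℕ} (hT : dec F ω T = (dec F ω X)ᵀ) (M : ℕ) :
    ent F ω (trc T M) 0 = (dec F ω X * dec F ω M).trace := by
  rw [Matrix.trace_mul_comm, Matrix.trace]
  simp only [Matrix.diag_apply, Matrix.mul_apply]
  have e : ∀ z w : F9, dec F ω M z w * dec F ω X w z =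
      ent F ω (ew M T) (9 * ix z + ix w) := by
    intro z w
    have h := congrFun (congrFun hT z) w
    rw [Matrix.transpose_apply] at h
    have := ix_lt z
    have := ix_lt w
    rw [← h, ent_ew hf _ _ (by omega), dec_apply, dec_apply]
  simp only [e]
  rw [sum_ix fun a => ∑ w : F9, ent F ω (ew M T) (9 * a + ix w)]
  have e2 : ∀ a : ℕ, ∑ w : F9, ent F ω (ew M T) (a + ix w) = _ := fun a =>
    sum_ix fun b => ent F ω (ew M T) (a + b)
  simp only [e2, trc, ent_and_three hf, ent_fold3 hf]
  norm_num
  simp only [add_assoc]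

/-- Equal traces give equal values of `trc`. -/
theorem trc_congr {T X A B : ℕ} (hT : dec F ω T = (dec F ω X)ᵀ)
    (h : (dec F ω X * dec F ω A).trace = (dec F ω X * dec F ω B).trace) : trc T A = trc T B := by
  rw [← ent_trc hf hT, ← ent_trc hf hT] at h
  obtain ⟨e0, e1⟩ := el_injective hf.two hf.omega h
  refine Nat.eq_of_testBit_eq fun i => ?_
  rcases i with _ | _ | i
  · simpa using e0
  · simpa using e1
  · have := trc_lt T A
    have := trc_lt T B
    have hp : 4 ≤ 2 ^ (i + 2) := (Nat.pow_le_pow_right two_pos (show 2 ≤ i + 2 by omega) : 2 ^ 2 ≤ _)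
    rw [Nat.testBit_lt_two_pow (lt_of_lt_of_le (trc_lt T A) hp),
      Nat.testBit_lt_two_pow (lt_of_lt_of_le (trc_lt T B) hp)]

end CfsgLib.Janko3Out
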